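import Cfsg.Agent.H0.QTits.D
set_option maxRecDepth 100000
set_option Elab.async false
set_option linter.unusedSectionVars false
namespace H0.QTits
open H0 BN 
theorem defs_ok : DefsOK R.p defs 10 := defsOK_of_chk c22
universe u
variable {G : Type u} [Group G] [Finite G] (m0 : Model G) (h0 : m0.R = H0.MTits.R)
noncomputable def m : Model G := m0.ext (lg := nat_lit 11) (N := nat_lit 2048) (l := H0.MTits.nl) h0 nl nl_ok 10 rfl defs defs_ok (by decide +kernel)
theorem mR : (m m0 h0).R = R := rfl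
variable (hb : m0.pst [2, 1, 0] = ⊥) (hc : Nat.card G = 17971200)
include h0 hb hc
theorem base : (m m0 h0).pst [2, 1, 0] = ⊥ := hb
omit hb hc in
theorem ch2_ok : (m m0 h0).ChainOK ch2 [] := ((m m0 h0).chain_cons [0, 1, 2, 3, 5, 6, 4, 0] (Model.via _ (mR m0 h0) (fun R => Model.fixP R [] [[10], [11], [12], [13], [16], [18], [20]]) c4) (Model.via _ (mR m0 h0) (fun R => Model.growP R [[10], [11], [12], [13], [16], [18], [20]] [0, 1, 2, 3, 5, 6, 4, 0] 0 128) c5) ((m m0 h0).chain_cons [0, 1, 2] (Model.via _ (mR m0 h0) (fun R => Model.fixP R [0] [[10, 11, 13, 15, 19], [12, 18, 19], [14, 15, 20]]) c2) (Model.via _ (mR m0 h0) (fun R => Model.growP R [[10, 11, 13, 15, 19], [12, 18, 19], [14, 15, 20]] [0, 1, 2] 1 8) c3) ((m m0 h0).chain_cons [0] (Model.via _ (mR m0 h0) (fun R => Model.fixP R [1, 0] [[10, 11, 13, 14, 17, 19, 20]]) c0) (Model.via _ (mR m0 h0) (fun R => Model.growP R [[10, 11, 13, 14, 17, 19, 20]] [0] 2 2) c1) ((m m0 h0).chain_nil _))))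
theorem pb2 : PBound G (2 ^ (0 + 1)) :=
  (m m0 h0).pbound C2 10 (k := 8775) (K := 3) (e := 1) hc (lt_step_all (a := 0) (k := 85) (lt_zero_all _) ((m m0 h0).rules_of (base m0 h0 hb hc) (Model.via _ (mR m0 h0) (fun R => rulesB R [2, 1, 0] (fun i => sh 10 (C2.L i)) (fun i => sh 10 (C2.R i)) 0 85) c6))) (ch2_ok m0 h0) (by decide +kernel) tests2 (all_take_done (all_take_step (all_take_zero _ tests2) (allL_spec c7)) (by decide +kernel))
    av2 FS2 YS2 rows2 (all_take_done (all_take_step (all_take_zero _ rows2) (allL_spec c8)) (by decide +kernel)) c9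
omit hb hc in
theorem ch3_ok : (m m0 h0).ChainOK ch3 [] := ((m m0 h0).chain_cons [0, 1, 2, 0, 1, 2] (Model.via _ (mR m0 h0) (fun R => Model.fixP R [] [[23], [24], [25]]) c10) (Model.via _ (mR m0 h0) (fun R => Model.growP R [[23], [24], [25]] [0, 1, 2, 0, 1, 2] 1 27) c11) ((m m0 h0).chain_nil _))
theorem pb3 : PBound G (3 ^ (0 + 1)) :=
  (m m0 h0).pbound C3 23 (k := 665600) (K := 2) (e := 1) hc (lt_step_all (a := 0) (k := 9) (lt_zero_all _) ((m m0 h0).rules_of (base m0 h0 hb hc) (Model.via _ (mR m0 h0) (fun R => rulesB R [2, 1, 0] (fun i => sh 23 (C3.L i)) (fun i => sh 23 (C3.R i)) 0 9) c12))) (ch3_ok m0 h0) (by decide +kernel) tests3 (all_take_done (all_take_step (all_take_zero _ tests3) (allL_spec c13)) (by decide +kernel))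
    av3 FS3 YS3 rows3 (all_take_done (all_take_step (all_take_zero _ rows3) (allL_spec c14)) (by decide +kernel)) c15
omit hb hc in
theorem ch5_ok : (m m0 h0).ChainOK ch5 [] := ((m m0 h0).chain_cons [0, 1, 0, 1, 0, 1, 0, 1] (Model.via _ (mR m0 h0) (fun R => Model.fixP R [] [[27], [28]]) c16) (Model.via _ (mR m0 h0) (fun R => Model.growP R [[27], [28]] [0, 1, 0, 1, 0, 1, 0, 1] 0 25) c17) ((m m0 h0).chain_nil _))
theorem pb5 : PBound G (5 ^ (0 + 1)) :=
  (m m0 h0).pbound C5 27 (k := 718848) (K := 2) (e := 1) hc (lt_step_all (a := 0) (k := 5) (lt_zero_all _) ((m m0 h0).rules_of (base m0 h0 hb hc) (Model.via _ (mR m0 h0) (fun R => rulesB R [2, 1, 0] (fun i => sh 27 (C5.L i)) (fun i => sh 27 (C5.R i)) 0 5) c18))) (ch5_ok m0 h0) (by decide +kernel) tests5 (all_take_done (all_take_step (all_take_zero _ tests5) (allL_spec c19)) (by decide +kernel))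
    av5 FS5 YS5 rows5 (all_take_done (all_take_step (all_take_zero _ rows5) (allL_spec c20)) (by decide +kernel)) c21
theorem bound (Γ : Type u) [Group Γ] [Finite Γ] (σ : Γ →* G) (hσ : Cfsg.IsStemExtension σ) : Nat.card σ.ker ∣ 1 :=
  card_ker_dvd (M := 13) (k := 11) (L := [2, 3, 5]) hc (by decide +kernel) (ex_bound (pb2 m0 h0 hb hc) (by decide) (ex_bound (pb3 m0 h0 hb hc) (by decide) (ex_bound (pb5 m0 h0 hb hc) (by decide) ex_bound_nil))) Γ σ hσ
end H0.QTits
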